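import Mathlib
import Cfsg.Agent.Lib.Coprime.Generation
import Cfsg.Agent.Lib.Coprime.Commutator
import Cfsg.Agent.Lib.PGroups.UniqueSubgroup
import Cfsg.Agent.Solvable.Basics

/-!
# Small lemmas on coprime action on groups of rank one
-/

set_option autoImplicit false

namespace Cfsg.Agent.EqualOrderConj.Abelian

open Subgroup

variable {G : Type*} [Group G]

/-- There is no elementary abelian subgroup of order `r²`. -/
def RankOne (r : ℕ) (G : Type*) [Group G] : Prop :=
  ∀ x y : G, orderOf x = r → orderOf y = r → Commute x y → y ∈ zpowers x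

theorem zpowers_eq_of_card [Finite G] {r : ℕ} [hr : Fact r.Prime] {H : Subgroup G} {x : G}
    (hH : Nat.card H = r) (hx : x ∈ H) (hx1 : x ≠ 1) : zpowers x = H ∧ orderOf x = r := by
  have ho : orderOf x = r := by
    have h := H.orderOf_dvd_natCard hx
    rw [hH] at h
    exact ((Nat.dvd_prime hr.out).1 h).resolve_left (by simpa [orderOf_eq_one_iff] using hx1)
  exact ⟨eq_of_le_of_card_ge (zpowers_le.2 hx) (by rw [Nat.card_zpowers, ho, hH]), ho⟩

theorem rankOne_subgroup {r : ℕ} (h : RankOne r G) (H : Subgroup G) : RankOne r H := by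
  intro x y hx hy hc
  obtain ⟨i, hi⟩ := h (x : G) (y : G) (by rwa [orderOf_coe]) (by rwa [orderOf_coe])
    (congrArg Subtype.val hc)
  exact ⟨i, Subtype.ext (by simpa using hi)⟩

theorem unique_of_rankOne [Finite G] {r : ℕ} [hr : Fact r.Prime] (h : RankOne r G)
    (hG : IsPGroup r G) (H K : Subgroup G) (hH : Nat.card H = r) (hK : Nat.card K = r) : H = K := by
  haveI : Nontrivial H := Finite.one_lt_card_iff_nontrivial.1 (hH ▸ hr.out.one_lt)
  haveI : Nontrivial G := Subtype.val_injective.nontrivial (α := H)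
  haveI := hG.center_nontrivial
  obtain ⟨c, hc⟩ := exists_prime_orderOf_dvd_card' r
    ((hG.to_subgroup (center G)).card_eq_or_dvd.resolve_left Finite.one_lt_card.ne')
  have key : ∀ L : Subgroup G, Nat.card L = r → L = zpowers (c : G) := by
    intro L hL
    haveI : Nontrivial L := Finite.one_lt_card_iff_nontrivial.1 (hL ▸ hr.out.one_lt)
    obtain ⟨x, hx⟩ := exists_ne (1 : L)
    obtain ⟨hz, ho⟩ := zpowers_eq_of_card hL x.2 (fun e => hx (Subtype.ext e))
    have hcx := h (c : G) (x : G) (by rwa [orderOf_coe]) ho (mem_center_iff.1 c.2 x).symm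
    rw [← hz]
    exact eq_of_le_of_card_ge (zpowers_le.2 hcx)
      (by rw [Nat.card_zpowers, Nat.card_zpowers, orderOf_coe, hc, ho])
  rw [key H hH, key K hK]

/-- `d⁻¹e⁻¹de` centralises a cyclic group normalised by `d` and `e`. -/
theorem commute_of_normalize {x d e : G} (hd : d * x * d⁻¹ ∈ zpowers x)
    (he : e * x * e⁻¹ ∈ zpowers x) : Commute (d⁻¹ * e⁻¹ * d * e) x := by
  obtain ⟨i, hi⟩ := hd
  obtain ⟨j, hj⟩ := he
  simp only at hi hj
  have h1 : (d * e) * x * (d * e)⁻¹ = (e * d) * x * (e * d)⁻¹ := by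
    calc (d * e) * x * (d * e)⁻¹ = d * (e * x * e⁻¹) * d⁻¹ := by group
      _ = (x ^ i) ^ j := by rw [← hj, ← conj_zpow, ← hi]
      _ = (x ^ j) ^ i := by rw [← zpow_mul, ← zpow_mul, mul_comm]
      _ = e * (d * x * d⁻¹) * e⁻¹ := by rw [← hi, ← conj_zpow, ← hj]
      _ = (e * d) * x * (e * d)⁻¹ := by group
  show d⁻¹ * e⁻¹ * d * e * x = x * (d⁻¹ * e⁻¹ * d * e)
  calc d⁻¹ * e⁻¹ * d * e * x = d⁻¹ * e⁻¹ * ((d * e) * x * (d * e)⁻¹) * (d * e) := by group
    _ = d⁻¹ * e⁻¹ * ((e * d) * x * (e * d)⁻¹) * (d * e) := by rw [h1]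
    _ = _ := by group

theorem comm_ne_one {d e : G} (h : d * e ≠ e * d) : d⁻¹ * e⁻¹ * d * e ≠ 1 := by
  intro h1
  apply h
  calc d * e = e * d * (d⁻¹ * e⁻¹ * d * e) := by group
    _ = e * d := by rw [h1, mul_one]

/-- A noncyclic abelian group acting coprimely on a cyclic group of prime-power order has a
nontrivial element acting trivially. -/
theorem kernel_cyclic [Finite G] {q : ℕ} [hq : Fact q.Prime] {U Q : Subgroup G} [IsMulCommutative U]
    (hU : ¬ IsCyclic U) (hn : U ≤ normalizer (Q : Set G))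
    (hcop : (Nat.card U).Coprime (Nat.card Q)) (hQ : IsPGroup q Q) [IsCyclic Q] :
    ∃ u ∈ U, u ≠ 1 ∧ ∀ x ∈ Q, u * x = x * u := by
  obtain ⟨g, hg⟩ := IsCyclic.exists_generator (α := Q)
  have hgen : ∀ x ∈ Q, x ∈ zpowers (g : G) := fun x hx => by
    obtain ⟨i, hi⟩ := hg ⟨x, hx⟩
    exact ⟨i, by simpa using congrArg Subtype.val hi⟩
  by_cases hg1 : (g : G) = 1
  · obtain ⟨u, hu, hu1⟩ := U.bot_or_exists_ne_one.resolve_left
      (fun e => hU (e ▸ inferInstance))
    refine ⟨u, hu, hu1, fun x hx => ?_⟩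
    have hx1 : x = 1 := by simpa [hg1] using hgen x hx
    rw [hx1, mul_one, one_mul]
  obtain ⟨k, hk⟩ := (IsPGroup.iff_orderOf.1 hQ) g
  rw [← orderOf_coe] at hk
  by_contra hno
  push Not at hno
  have hle : Coprime.fixedGen U Q ≤ zpowers ((g : G) ^ q) := by
    refine iSup₂_le fun u hu x hx => ?_
    obtain ⟨hxQ, hxu⟩ := mem_inf.1 hx
    obtain ⟨i, rfl⟩ := hgen x hxQ
    simp only
    by_cases hqi : (q : ℤ) ∣ i
    · obtain ⟨m, rfl⟩ := hqi
      exact ⟨m, by simp only [zpow_mul, zpow_natCast]⟩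
    exfalso
    obtain ⟨y, hy, hne⟩ := hno u hu.1 hu.2
    obtain ⟨a, b, hab⟩ : IsCoprime i ((q : ℤ) ^ k) :=
      ((Prime.coprime_iff_not_dvd (Nat.prime_iff_prime_int.1 hq.out)).2 hqi).symm.pow_right
    have hpk : (g : G) ^ ((q : ℤ) ^ k) = 1 := by
      rw [← Nat.cast_pow, zpow_natCast, ← hk, pow_orderOf_eq_one]
    have hgx : (g : G) = ((g : G) ^ i) ^ a := by
      conv_lhs => rw [← zpow_one (g : G), ← hab, zpow_add, mul_comm b, zpow_mul, zpow_mul, hpk]
      rw [one_zpow, mul_one, ← zpow_mul, ← zpow_mul, mul_comm]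
    have hc : Commute u (g : G) := by
      rw [hgx]
      exact (show Commute u ((g : G) ^ i) from (mem_centralizer_singleton_iff.1 hxu).symm).zpow_right a
    obtain ⟨j, rfl⟩ := hgen y hy
    exact hne (hc.zpow_right j)
  rw [Coprime.fixedGen_eq hU hn hcop] at hle
  obtain ⟨j, hj⟩ := hle g.2
  simp only at hj
  have h1 : (g : G) ^ ((q : ℤ) * j - 1) = 1 := by
    rw [zpow_sub, zpow_one, zpow_mul, zpow_natCast, hj, mul_inv_cancel]
  rcases k with _ | k
  · exact hg1 (orderOf_eq_one_iff.1 (by rw [hk, pow_zero]))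
  have h2 : (q : ℤ) ∣ (q : ℤ) * j - 1 :=
    (Int.natCast_dvd_natCast.2 (hk ▸ dvd_pow_self q (Nat.succ_ne_zero k))).trans
      (orderOf_dvd_iff_zpow_eq_one.2 h1)
  have h3 : (q : ℤ) ∣ 1 := by
    have := dvd_sub (dvd_mul_right (q : ℤ) j) h2
    simpa using this
  exact hq.out.ne_one (Nat.dvd_one.1 (Int.natCast_dvd_natCast.1 (by simpa using h3)))

/-- An abelian group of order `r²`, `r` odd, acting on a generalized quaternion group has a
nontrivial element acting trivially. -/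
theorem kernel_quaternion [Finite G] {r n : ℕ} [hr : Fact r.Prime] (hr2 : r ≠ 2) {U Q : Subgroup G}
    (hU : Nat.card U = r ^ 2) (hn : U ≤ normalizer (Q : Set G))
    (e : Q ≃* QuaternionGroup (2 ^ n)) : ∃ u ∈ U, u ≠ 1 ∧ ∀ x ∈ Q, u * x = x * u := by
  classical
  haveI : NeZero (2 ^ n) := ⟨pow_ne_zero _ two_ne_zero⟩
  haveI : Fact (Nat.Prime 2) := ⟨Nat.prime_two⟩
  have hcardQ : Nat.card Q = 2 ^ (n + 2) := by
    rw [Nat.card_congr e.toEquiv, Nat.card_eq_fintype_card, QuaternionGroup.card, pow_add]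
    ring
  have hQp : IsPGroup 2 Q := IsPGroup.of_card hcardQ
  set Φ := frattini Q
  have hΦ : 2 ^ n ∣ Nat.card Φ := by
    set g : Q := e.symm (QuaternionGroup.a 1) with hg
    have ho : orderOf g = 2 * 2 ^ n := by
      rw [hg, MulEquiv.orderOf_eq, QuaternionGroup.orderOf_a_one]
    have h1 : g ^ 2 ∈ Φ := Solvable.Basics.pow_mem_frattini hQp g
    have h2 : orderOf (g ^ 2) = 2 ^ n := by
      rw [orderOf_pow_of_dvd two_ne_zero (ho ▸ dvd_mul_right 2 _), ho,
        Nat.mul_div_cancel_left _ two_pos]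
    exact h2 ▸ Φ.orderOf_dvd_natCard h1
  have hidx : Nat.card (Q ⧸ Φ) ∣ 4 := by
    obtain ⟨m, hm⟩ := hΦ
    have h3 := Φ.card_eq_card_quotient_mul_card_subgroup
    rw [hcardQ, hm, pow_add, show Nat.card (Q ⧸ Φ) * (2 ^ n * m) = 2 ^ n * (Nat.card (Q ⧸ Φ) * m)
      by ring] at h3
    exact Dvd.intro m (Nat.eq_of_mul_eq_mul_left (by positivity) h3).symm
  let ψ : MulAut Q →* Equiv.Perm (Q ⧸ Φ) :=
    { toFun := fun φ => (QuotientGroup.congr Φ Φ φ
        (characteristic_iff_map_eq.1 frattini_characteristic φ)).toEquiv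
      map_one' := by
        ext x
        induction x using QuotientGroup.induction_on with
        | _ y => rfl
      map_mul' := fun φ φ' => by
        ext x
        induction x using QuotientGroup.induction_on with
        | _ y => rfl }
  let ρ : U →* Equiv.Perm (Q ⧸ Φ) :=
    ψ.comp ((normalizerMonoidHom Q).comp (inclusion hn))
  obtain ⟨u, hu, hu1⟩ : ∃ u : U, ρ u = 1 ∧ u ≠ 1 := by
    by_contra hall
    push Not at hall
    have hinj : Function.Injective ρ := (injective_iff_map_eq_one ρ).2 hall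
    have hd := Subgroup.card_dvd_of_injective ρ hinj
    rw [hU, Nat.card_perm] at hd
    have hd' : r ^ 2 ∣ 24 := hd.trans (Nat.factorial_dvd_factorial (Nat.le_of_dvd four_pos hidx))
    have hr24 : r ≤ 4 := by nlinarith [Nat.le_of_dvd (by norm_num) hd']
    have := hr.out.two_le
    interval_cases r
    · omega
    · norm_num at hd'
    · exact absurd hr.out (by norm_num)
  refine ⟨u, u.2, fun h => hu1 (Subtype.ext h), fun x hx => ?_⟩
  have hle : zpowers (u : G) ≤ centralizer (Q : Set G) := by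
    refine Coprime.le_centralizer_of_frattini ((zpowers_le.2 u.2).trans hn) ?_ ?_
    · rw [Nat.card_zpowers]
      refine Nat.Coprime.coprime_dvd_right (Φ.card_subgroup_dvd_card) ?_
      rw [hcardQ]
      refine Nat.Coprime.pow_right _ (Nat.Coprime.coprime_dvd_left (U.orderOf_dvd_natCard u.2) ?_)
      rw [hU]
      exact Nat.Coprime.pow_left _ ((Nat.coprime_primes hr.out Nat.prime_two).2 hr2)
    · rintro _ ⟨i, rfl⟩ k hk
      simp only
      have h4 : ρ (u ^ i) = 1 := by rw [map_zpow, hu, one_zpow]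
      have h5 := congrArg (fun f : Equiv.Perm (Q ⧸ Φ) => f ((⟨k, hk⟩ : Q) : Q ⧸ Φ)) h4
      change ((((normalizerMonoidHom Q) (inclusion hn (u ^ i))) ⟨k, hk⟩ : Q) : Q ⧸ Φ) =
        ((⟨k, hk⟩ : Q) : Q ⧸ Φ) at h5
      rw [QuotientGroup.eq] at h5
      set a : Q := ((normalizerMonoidHom Q) (inclusion hn (u ^ i))) ⟨k, hk⟩
      refine ⟨a * ⟨k, hk⟩⁻¹, ?_, ?_⟩
      · have hN : Φ.Normal := inferInstance
        simpa [mul_assoc] using Φ.inv_mem (hN.conj_mem _ h5 a)
      · show (a : G) * k⁻¹ = _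
        rw [show (a : G) = ((u ^ i : U) : G) * k * ((u ^ i : U) : G)⁻¹ from rfl]
        simp
  exact (mem_centralizer_iff.1 (hle (mem_zpowers _)) x hx).symm

end Cfsg.Agent.EqualOrderConj.Abelian
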