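import Mathlib
import Cfsg.Agent.GenA.AbelianConj
import Cfsg.Agent.Lib.Components.Fitting
import Cfsg.Agent.Solvable.Fitting
import Cfsg.Agent.Lib.PLocal.Cores
import Cfsg.Agent.Lib.EqualOrderConj.Basic
import Cfsg.Agent.Lib.EqualOrderConj.Abelian.Small

/-!
# Solvable groups with conjugate abelian subgroups and no noncyclic minimal normal subgroup
-/

set_option autoImplicit false

namespace Cfsg.Agent.EqualOrderConj.Abelian

open Subgroup Cfsg
open GenA.AbelianConj (Hyp)

variable {K : Type*} [Group K] [Finite K]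

/-- `K` has no minimal normal subgroup of order above a prime. -/
def SmallMinimal (K : Type*) [Group K] : Prop :=
  ∀ (r : ℕ) [Fact r.Prime] (M : Subgroup K) [M.Normal], IsMulCommutative M → (∀ a ∈ M, a ^ r = 1) →
    M ≠ ⊥ → (∀ L : Subgroup K, L.Normal → L ≤ M → L = ⊥ ∨ L = M) → Nat.card M ≤ r

theorem mem_normal_of_order (hK : Hyp K) {r : ℕ} [hr : Fact r.Prime] {M : Subgroup K} [M.Normal]
    {x y : K} (hx : orderOf x = r) (hy : orderOf y = r) (hyM : y ∈ M) : x ∈ M := by
  obtain ⟨g, hg⟩ := hK (zpowers x) (zpowers y) inferInstance inferInstance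
    (by rw [Nat.card_zpowers, Nat.card_zpowers, hx, hy])
  exact GenA.AbelianConj.conj_mem_of_zpowers hg hyM

/-- If `O_r(K) ≠ 1` all elements of order `r` lie in one subgroup of order `r`. -/
theorem exists_prime_normal (hK : Hyp K) [Group.IsSolvable K] (hM : SmallMinimal K) (r : ℕ)
    [hr : Fact r.Prime] (h : pCore r K ≠ ⊥) :
    ∃ M : Subgroup K, M.Normal ∧ M ≤ pCore r K ∧ Nat.card M = r ∧
      ∀ x : K, orderOf x = r → x ∈ M := by
  haveI : (pCore r K).Normal := inferInstance
  obtain ⟨M, hMn, hMle, hMne, hMmin⟩ := Solvable.Basics.exists_minimal_normal h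
  haveI := hMn
  obtain ⟨hab, q, hq, hexp⟩ := Solvable.Basics.minimal_normal_solvable inferInstance hMne hMmin
  obtain ⟨x, hx, hx1⟩ := M.bot_or_exists_ne_one.resolve_left hMne
  haveI := Fact.mk hq
  obtain rfl : q = r := by
    obtain ⟨k, hk⟩ := (PLocal.Cores.isPGroup_pCore (p := r) (G := K)) ⟨x, hMle hx⟩
    have h1 : x ^ r ^ k = 1 := congrArg Subtype.val hk
    have h2 : orderOf x = q := orderOf_eq_prime (hexp x hx) hx1
    have h3 : q ∣ r ^ k := h2 ▸ orderOf_dvd_of_pow_eq_one h1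
    exact (Nat.prime_dvd_prime_iff_eq hq hr.out).1 (hq.dvd_of_dvd_pow h3)
  have hle := hM q M hab hexp hMne hMmin
  have hox : orderOf x = q := orderOf_eq_prime (hexp x hx) hx1
  have hc : Nat.card M = q :=
    le_antisymm hle (hox ▸ Nat.le_of_dvd Nat.card_pos (M.orderOf_dvd_natCard hx))
  exact ⟨M, hMn, hMle, hc, fun y hy => mem_normal_of_order hK hy hox hx⟩

theorem rankOne_of_pCore (hK : Hyp K) [Group.IsSolvable K] (hM : SmallMinimal K) (r : ℕ)
    [hr : Fact r.Prime] (h : pCore r K ≠ ⊥) : RankOne r K := by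
  intro x y hx hy _
  obtain ⟨M, -, -, hc, hall⟩ := exists_prime_normal hK hM r h
  have hx1 : x ≠ 1 := fun e => hr.out.ne_one (by rw [← hx, e, orderOf_one])
  rw [(zpowers_eq_of_card hc (hall x hx) hx1).1]
  exact hall y hy

/-- Each `O_q(K)` is cyclic or generalized quaternion. -/
theorem pCore_cyclic_or_quaternion (hK : Hyp K) [Group.IsSolvable K] (hM : SmallMinimal K) (q : ℕ)
    [hq : Fact q.Prime] :
    IsCyclic ↥(pCore q K) ∨ (q = 2 ∧ ∃ n : ℕ, Nonempty (↥(pCore q K) ≃* QuaternionGroup (2 ^ n))) := by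
  have hp : IsPGroup q ↥(pCore q K) := PLocal.Cores.isPGroup_pCore
  refine PGroups.UniqueSubgroup.isCyclic_or_quaternion hp fun A B hA hB => ?_
  by_cases h : pCore q K = ⊥
  · exfalso
    have := Nat.le_of_dvd Nat.card_pos (hA ▸ A.card_subgroup_dvd_card)
    rw [h, card_bot] at this
    exact absurd hq.out.two_le (by omega)
  exact unique_of_rankOne (rankOne_subgroup (rankOne_of_pCore hK hM q h) _) hp A B hA hB

theorem centralizes_fitting {c : K}
    (h : ∀ q : ℕ, q.Prime → ∀ x ∈ pCore q K, c * x = x * c) :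
    c ∈ centralizer (fittingSubgroup K : Set K) := by
  have : fittingSubgroup K ≤ centralizer ({c} : Set K) := by
    rw [Components.Fitting.fitting_eq_coreJoin]
    refine iSup_le fun q x hx => mem_centralizer_singleton_iff.2 ?_
    exact (h q q.2 x hx).symm
  exact mem_centralizer_iff.2 fun x hx => mem_centralizer_singleton_iff.1 (this hx)

/-- An element of `r`-power order centralizing the Fitting subgroup is trivial if `O_r(K) = 1`. -/
theorem eq_one_of_centralizes [Group.IsSolvable K] {r : ℕ} [hr : Fact r.Prime]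
    (h : pCore r K = ⊥) {c : K} {k : ℕ} (hc : c ^ r ^ k = 1)
    (hcen : ∀ q : ℕ, q.Prime → ∀ x ∈ pCore q K, c * x = x * c) : c = 1 := by
  have h1 : c ∈ fittingSubgroup K :=
    Solvable.Fitting.centralizer_fitting_le (centralizes_fitting hcen)
  rw [Components.Fitting.fitting_eq_coreJoin] at h1
  have h2 : c ∈ pPrimeCore r K := by
    have := Components.Fitting.coreJoin_le_sup r h1
    rwa [h, bot_sup_eq] at this
  refine orderOf_eq_one_iff.1 (Nat.eq_one_of_dvd_coprimes
    ((PLocal.Cores.coprime_card_pPrimeCore (p := r) (G := K)).pow_right k)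
    ((pPrimeCore r K).orderOf_dvd_natCard h2) (orderOf_dvd_of_pow_eq_one hc))

theorem rankOne (hK : Hyp K) [Group.IsSolvable K] (hM : SmallMinimal K) (r : ℕ)
    [hr : Fact r.Prime] : RankOne r K := by
  by_cases hr0 : pCore r K ≠ ⊥
  · exact rankOne_of_pCore hK hM r hr0
  push Not at hr0
  intro x y hx hy hc
  by_contra hne
  have hx1 : x ≠ 1 := fun e => hr.out.ne_one (by rw [← hx, e, orderOf_one])
  set U := zpowers x ⊔ zpowers y
  obtain ⟨hcard, hcomm, hexp⟩ := EqualOrderConj.pair_data (p := r) (z := x) (x := y)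
    (hx ▸ pow_orderOf_eq_one x) hx1 (hy ▸ pow_orderOf_eq_one y) hne hc.symm.eq
  haveI hUc : IsMulCommutative U := GenA.AbelianConj.isMulCommutative_of hcomm
  have hUn : ¬ IsCyclic U := fun hU => by
    obtain ⟨g, hg⟩ := hU.exists_generator
    have h1 := orderOf_eq_card_of_forall_mem_zpowers hg
    rw [hcard] at h1
    have h2 := orderOf_dvd_of_pow_eq_one (show g ^ r = 1 from Subtype.ext (by simpa using hexp g g.2))
    rw [h1] at h2
    have := Nat.le_of_dvd hr.out.pos h2
    nlinarith [hr.out.two_le]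
  -- every element of order `r` centralises each `O_q(K)`
  have hall : ∀ q : ℕ, q.Prime → ∀ z ∈ pCore q K, x * z = z * x := by
    intro q hq z hz
    haveI := Fact.mk hq
    by_cases hqr : q = r
    · subst hqr
      rw [hr0, mem_bot] at hz
      rw [hz, mul_one, one_mul]
    haveI : (pCore q K).Normal := inferInstance
    have hn : U ≤ normalizer (pCore q K : Set K) := le_normalizer_of_normal
    have hp : IsPGroup q ↥(pCore q K) := PLocal.Cores.isPGroup_pCore
    obtain ⟨u, hu, hu1, hcen⟩ : ∃ u ∈ U, u ≠ 1 ∧ ∀ z ∈ pCore q K, u * z = z * u := by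
      rcases pCore_cyclic_or_quaternion hK hM q with hc' | ⟨rfl, n, ⟨e⟩⟩
      · refine kernel_cyclic (q := q) hUn hn ?_ hp
        obtain ⟨m, hm⟩ := hp.exists_card_eq
        rw [hcard, hm]
        exact Nat.Coprime.pow _ _ ((Nat.coprime_primes hr.out hq).2 (Ne.symm hqr))
      · exact kernel_quaternion (Ne.symm hqr) hcard hn e
    have ho : orderOf u = r := orderOf_eq_prime (hexp u hu) hu1
    have : x ∈ centralizer (pCore q K : Set K) :=
      mem_normal_of_order hK hx ho (mem_centralizer_iff.2 fun w hw => (hcen w hw).symm)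
    exact (mem_centralizer_iff.1 this z hz).symm
  exact hx1 (eq_one_of_centralizes hr0 (k := 1) (by rw [pow_one, ← hx, pow_orderOf_eq_one]) hall)

/-- A noncyclic `2`-subgroup forces a central involution, the only one in `K`. -/
theorem exists_central_involution (hK : Hyp K) [Group.IsSolvable K] (hM : SmallMinimal K)
    (D : Subgroup K) (hD : IsPGroup 2 D) (hcyc : ¬ IsCyclic D) :
    ∃ z : K, orderOf z = 2 ∧ z ∈ D ∧ (∀ g : K, g * z = z * g) ∧
      (∀ d ∈ D, d ≠ 1 → z ∈ zpowers d) ∧ ∃ d ∈ D, ∃ e ∈ D, d * e ≠ e * d := by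
  haveI : Fact (Nat.Prime 2) := ⟨Nat.prime_two⟩
  have h1 := rankOne hK hM 2
  obtain ⟨d, hd, e, he, hde⟩ : ∃ d ∈ D, ∃ e ∈ D, d * e ≠ e * d := by
    by_contra hall
    push Not at hall
    haveI : IsMulCommutative D := GenA.AbelianConj.isMulCommutative_of hall
    refine hcyc (PGroups.UniqueSubgroup.isCyclic_of_abelian hD fun a b ha hb ha1 => ?_)
    by_cases hb1 : b = 1
    · exact hb1 ▸ one_mem _
    exact rankOne_subgroup h1 D a b (orderOf_eq_prime ha ha1) (orderOf_eq_prime hb hb1)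
      (Subtype.ext (hall a a.2 b b.2))
  have h2 : pCore 2 K ≠ ⊥ := by
    intro h2
    refine comm_ne_one hde ?_
    set c := d⁻¹ * e⁻¹ * d * e with hcdef
    have hcD : c ∈ D := D.mul_mem (D.mul_mem (D.mul_mem (D.inv_mem hd) (D.inv_mem he)) hd) he
    obtain ⟨k, hk⟩ := hD ⟨c, hcD⟩
    refine eq_one_of_centralizes h2 (k := k) (congrArg Subtype.val hk) fun q hq x hx => ?_
    haveI := Fact.mk hq
    rcases pCore_cyclic_or_quaternion hK hM q with hc' | ⟨rfl, n, ⟨f⟩⟩
    · obtain ⟨g, hg⟩ := hc'.exists_generator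
      have hgen : ∀ w ∈ pCore q K, w ∈ zpowers (g : K) := fun w hw => by
        obtain ⟨i, hi⟩ := hg ⟨w, hw⟩
        exact ⟨i, by simpa using congrArg Subtype.val hi⟩
      have hn : (pCore q K).Normal := inferInstance
      obtain ⟨i, rfl⟩ := hgen x hx
      exact ((commute_of_normalize (hgen _ (hn.conj_mem _ g.2 d))
        (hgen _ (hn.conj_mem _ g.2 e))).zpow_right i).eq
    · rw [h2, mem_bot] at hx
      rw [hx, mul_one, one_mul]
  obtain ⟨M, hMn, -, hc, hall⟩ := exists_prime_normal hK hM 2 h2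
  haveI : Nontrivial M := Finite.one_lt_card_iff_nontrivial.1 (by omega)
  obtain ⟨z, hz⟩ := exists_ne (1 : M)
  obtain ⟨hzM, hzo⟩ := zpowers_eq_of_card hc z.2 (fun e => hz (Subtype.ext e))
  have huniq : ∀ w : K, orderOf w = 2 → w = z := by
    intro w hw
    have hwz : w ∈ zpowers (z : K) := by rw [hzM]; exact hall w hw
    obtain ⟨i, rfl⟩ := hwz
    simp only at hw ⊢
    rcases Int.even_or_odd i with ⟨m, rfl⟩ | ⟨m, rfl⟩
    · rw [show m + m = (2 : ℤ) * m by ring, zpow_mul,
        show ((z : K) ^ (2 : ℤ)) = 1 by rw [zpow_ofNat, ← hzo, pow_orderOf_eq_one]] at hw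
      simp at hw
    · rw [zpow_add, zpow_mul, zpow_one,
        show ((z : K) ^ (2 : ℤ)) = 1 by rw [zpow_ofNat, ← hzo, pow_orderOf_eq_one], one_zpow, one_mul]
  have hzd : ∀ d ∈ D, d ≠ 1 → (z : K) ∈ zpowers d := by
    intro d hd hd1
    obtain ⟨k, hk⟩ := (IsPGroup.iff_orderOf.1 hD) ⟨d, hd⟩
    rw [Subgroup.orderOf_mk] at hk
    rcases k with _ | k
    · exact absurd (orderOf_eq_one_iff.1 (by rw [hk, pow_zero])) hd1
    have ho : orderOf (d ^ 2 ^ k) = 2 := by
      rw [orderOf_pow_of_dvd (by positivity) (hk ▸ pow_dvd_pow 2 (by omega)), hk,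
        pow_succ, Nat.mul_div_cancel_left _ (by positivity)]
    exact huniq _ ho ▸ pow_mem (mem_zpowers d) _
  have hd1 : d ≠ 1 := fun h => hde (by rw [h, one_mul, mul_one])
  refine ⟨z, hzo, (zpowers_le.2 hd) (hzd d hd hd1), fun g => ?_, hzd, d, hd, e, he, hde⟩
  exact mul_inv_eq_iff_eq_mul.1 (huniq (g * z * g⁻¹) (by rw [← MulAut.conj_apply, MulEquiv.orderOf_eq, hzo]))

end Cfsg.Agent.EqualOrderConj.Abelian
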