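import Mathlib
import Cfsg.Agent.Lib.EqualOrderConj.Abelian.RankOne
import Cfsg.Agent.Lib.Involutions.EqualOrderConj.Frame
import Cfsg.Agent.Lib.Coprime.Generation
import Cfsg.Agent.Lib.Coprime.Commutator
import Cfsg.Agent.Lib.Coprime.FrobeniusPGroup

/-!
# The complement of a Fitting subgroup made of elementary abelian Sylow subgroups
-/

set_option autoImplicit false

namespace Cfsg.Agent.EqualOrderConj.Abelian

open Subgroup Cfsg
open GenA.AbelianConj (Hyp)

variable {G : Type*} [Group G] [Finite G]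

/-- Conjugation as a homomorphism. -/
abbrev cj (g : G) : G →* G := (MulAut.conj g).toMonoidHom

omit [Finite G] in
theorem mem_map_cj {S : Subgroup G} {g y : G} : y ∈ S.map (cj g) ↔ g⁻¹ * y * g ∈ S := by
  constructor
  · rintro ⟨x, hx, rfl⟩
    show g⁻¹ * (g * x * g⁻¹) * g ∈ S
    simpa [mul_assoc] using hx
  · exact fun h => ⟨_, h, show g * (g⁻¹ * y * g) * g⁻¹ = y by group⟩

omit [Finite G] in
theorem map_cj_mul (S : Subgroup G) (g h : G) : S.map (cj (g * h)) = (S.map (cj h)).map (cj g) := by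
  ext y
  rw [mem_map_cj, mem_map_cj, mem_map_cj]
  simp [mul_assoc]

omit [Finite G] in
theorem map_cj_eq_self {S : Subgroup G} {g : G} (h : g ∈ normalizer (S : Set G)) :
    S.map (cj g) = S := by
  ext y
  rw [mem_map_cj]
  exact (mem_normalizer_iff''.1 h y).symm

omit [Finite G] in
theorem map_cj_card (S : Subgroup G) (g : G) : Nat.card (S.map (cj g)) = Nat.card S :=
  card_map_of_injective (f := cj g) (MulAut.conj g).injective

/-- The situation: `F(G)` is abelian, made of elementary abelian Sylow subgroups, with a complement `K`. -/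
structure Frame (G : Type*) [Group G] (K : Subgroup G) : Prop where
  hyp : Hyp G
  solv : Group.IsSolvable G
  comm : ∀ a ∈ fittingSubgroup G, ∀ b ∈ fittingSubgroup G, a * b = b * a
  compl : IsComplement' (fittingSubgroup G) K
  cop : (Nat.card (fittingSubgroup G)).Coprime (Nat.card K)
  sylow : ∀ p : ℕ, p.Prime → pCore p G ≠ ⊥ → ¬ p ∣ (pCore p G).index ∧ ∀ a ∈ pCore p G, a ^ p = 1

namespace Frame

variable {K : Subgroup G} (h : Frame G K)
include h

theorem decomp (g : G) : ∃ k ∈ K, ∃ f ∈ fittingSubgroup G, g = k * f := by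
  have : g⁻¹ ∈ fittingSubgroup G ⊔ K := by rw [h.compl.sup_eq_top]; exact mem_top _
  obtain ⟨f, hf, k, hk, he⟩ := mem_sup_of_normal_left.1 this
  exact ⟨k⁻¹, inv_mem hk, f⁻¹, inv_mem hf, by rw [← mul_inv_rev, he, inv_inv]⟩

theorem fixes {f : G} (hf : f ∈ fittingSubgroup G) {X : Subgroup G} (hX : X ≤ fittingSubgroup G) :
    X.map (cj f) = X :=
  map_cj_eq_self (EqualOrderConj.mem_normalizer_of_conj_mem fun a ha => by
    rw [h.comm f hf a (hX ha), mul_inv_cancel_right]; exact ha)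

theorem eq_of_mem {f a : G} (hf : f ∈ fittingSubgroup G) (ha : a ∈ K) (hfa : f * a * f⁻¹ ∈ K) :
    f * a * f⁻¹ = a := by
  have h1 : f * a * f⁻¹ * a⁻¹ ∈ fittingSubgroup G := by
    rw [show f * a * f⁻¹ * a⁻¹ = f * (a * f⁻¹ * a⁻¹) by group]
    exact mul_mem hf ((inferInstance : (fittingSubgroup G).Normal).conj_mem _ (inv_mem hf) a)
  have h2 := disjoint_def.1 h.compl.disjoint h1 (K.mul_mem hfa (inv_mem ha))
  exact mul_inv_eq_one.1 h2

/-- Subgroups of `K` conjugate in `G` are conjugate in `K`. -/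
theorem conj_in {A B : Subgroup G} (hA : A ≤ K) (hB : B ≤ K) {g : G} (hg : B = A.map (cj g)) :
    ∃ k ∈ K, B = A.map (cj k) := by
  obtain ⟨k, hk, f, hf, rfl⟩ := h.decomp g
  refine ⟨k, hk, hg.trans ?_⟩
  rw [map_cj_mul]
  congr 1
  have hfix : ∀ a ∈ A, f * a * f⁻¹ = a := fun a ha => h.eq_of_mem hf (hA ha) (by
    have h1 : k * (f * a * f⁻¹) * k⁻¹ ∈ K := by
      refine hB (hg ▸ mem_map_cj.2 ?_)
      simpa [mul_assoc] using ha
    simpa [mul_assoc] using K.mul_mem (K.mul_mem (inv_mem hk) h1) hk)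
  ext y
  rw [mem_map_cj]
  refine ⟨fun hy => ?_, fun hy => ?_⟩
  · have h1 := hfix _ hy
    rw [show f * (f⁻¹ * y * f) * f⁻¹ = y by group] at h1
    rw [h1]
    exact hy
  · have h1 := hfix y hy
    have h2 : f⁻¹ * y * f = y := by
      conv_lhs => rw [← h1]
      group
    rwa [h2]

theorem hyp_K : Hyp K := by
  intro A B hA hB hc
  obtain ⟨g, hg⟩ := h.hyp (A.map K.subtype) (B.map K.subtype) inferInstance inferInstance
    (by rw [card_subtype, card_subtype, hc])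
  obtain ⟨k, hk, hk'⟩ := h.conj_in (map_subtype_le A) (map_subtype_le B) hg
  refine ⟨⟨k, hk⟩, map_injective K.subtype_injective (hk'.trans ?_)⟩
  rw [Subgroup.map_map, Subgroup.map_map]
  rfl

theorem pCore_le (p : ℕ) [Fact p.Prime] : pCore p G ≤ fittingSubgroup G :=
  Components.Fitting.pCore_le_fitting p

/-- Some `O_p(G)` is not centralized. -/
theorem exists_moved {S : Subgroup G} (hS : S ≤ K) (hS1 : S ≠ ⊥) :
    ∃ (p : ℕ) (_ : Fact p.Prime), ∃ s ∈ S, ∃ x ∈ pCore p G, s * x ≠ x * s := by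
  by_contra hall
  push Not at hall
  haveI := h.solv
  obtain ⟨s, hs, hs1⟩ := S.bot_or_exists_ne_one.resolve_left hS1
  refine hs1 (disjoint_def.1 h.compl.disjoint (Solvable.Fitting.centralizer_fitting_le ?_) (hS hs))
  exact centralizes_fitting fun q hq x hx => hall q ⟨hq⟩ s hs x hx

theorem pCore_data (p : ℕ) [hp : Fact p.Prime] (hne : pCore p G ≠ ⊥) :
    IsMulCommutative (pCore p G) ∧ (∀ a ∈ pCore p G, a ^ p = 1) ∧ IsPGroup p (pCore p G) :=
  ⟨GenA.AbelianConj.isMulCommutative_of fun a ha b hb => h.comm a (h.pCore_le p ha) b (h.pCore_le p hb),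
    (h.sylow p hp.out hne).2, PLocal.Cores.isPGroup_pCore⟩

/-- `K` is transitive on the subgroups of order `p` of `O_p(G)`. -/
theorem transitive {p : ℕ} [hp : Fact p.Prime] {x y : G} (hx : x ∈ pCore p G) (hy : y ∈ pCore p G)
    (hx1 : x ≠ 1) (hy1 : y ≠ 1) : ∃ k ∈ K, zpowers (k * x * k⁻¹) = zpowers y := by
  have hne : pCore p G ≠ ⊥ := fun e => hx1 (by rwa [e, mem_bot] at hx)
  obtain ⟨-, hexp, -⟩ := h.pCore_data p hne
  obtain ⟨g, hg⟩ := h.hyp (zpowers x) (zpowers y) inferInstance inferInstance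
    (by rw [Nat.card_zpowers, Nat.card_zpowers, orderOf_eq_prime (hexp x hx) hx1,
      orderOf_eq_prime (hexp y hy) hy1])
  obtain ⟨k, hk, f, hf, rfl⟩ := h.decomp g
  refine ⟨k, hk, ?_⟩
  rw [hg, MonoidHom.map_zpowers]
  congr 1
  show k * x * k⁻¹ = (k * f) * x * (k * f)⁻¹
  rw [mul_inv_rev, show k * f * x * (f⁻¹ * k⁻¹) = k * (f * x * f⁻¹) * k⁻¹ by group,
    h.comm f hf x (h.pCore_le p hx), mul_inv_cancel_right]

theorem smallMinimal : SmallMinimal K := by
  intro r hr M hMn hab hexp hMne hmin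
  by_contra hlt
  set M' := M.map K.subtype with hM'
  have hMK : M' ≤ K := map_subtype_le M
  have hconjM : ∀ k ∈ K, ∀ u ∈ M', k * u * k⁻¹ ∈ M' := by
    rintro k hk _ ⟨u, hu, rfl⟩
    exact ⟨⟨k, hk⟩ * u * ⟨k, hk⟩⁻¹, hMn.conj_mem u hu _, rfl⟩
  haveI : IsMulCommutative M' := by haveI := hab; exact map_isMulCommutative M K.subtype
  have hexp' : ∀ u ∈ M', u ^ r = 1 := by
    rintro _ ⟨u, hu, rfl⟩
    rw [← map_pow, hexp u hu, map_one]
  have hcyc : ¬ IsCyclic M' := fun hc => hlt (by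
    obtain ⟨g, hg⟩ := hc.exists_generator
    rw [show Nat.card M = Nat.card M' from (card_subtype _ M).symm,
      ← orderOf_eq_card_of_forall_mem_zpowers hg]
    exact Nat.le_of_dvd hr.out.pos (orderOf_dvd_of_pow_eq_one (Subtype.ext (by simpa using hexp' g g.2))))
  obtain ⟨p, hp, s, hs, x₀, hx₀, hsx⟩ := h.exists_moved hMK (fun e => hMne
    ((map_eq_bot_iff_of_injective M K.subtype_injective).1 e))
  have hne : pCore p G ≠ ⊥ := fun e => hsx (by
    rw [e, mem_bot] at hx₀; rw [hx₀, mul_one, one_mul])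
  obtain ⟨hNc, hNexp, hNp⟩ := h.pCore_data p hne
  set N := pCore p G with hN
  haveI := hNc
  haveI hNn : N.Normal := by rw [hN]; infer_instance
  have hcop : ∀ S : Subgroup G, S ≤ K → (Nat.card S).Coprime (Nat.card N) := fun S hS =>
    (h.cop.symm.coprime_dvd_left (card_dvd_of_le hS)).coprime_dvd_right (card_dvd_of_le (h.pCore_le p))
  -- the kernel of `M'` on `N`
  have hfaith : ∀ u ∈ M', (∀ x ∈ N, u * x = x * u) → u = 1 := by
    set L := M ⊓ (centralizer (N : Set G)).comap K.subtype with hL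
    haveI : (centralizer (N : Set G)).Normal := inferInstance
    have hLn : L.Normal := normal_inf_normal _ _
    rcases hmin L hLn inf_le_left with e | e
    · rintro _ ⟨u, hu, rfl⟩ hcen
      have : u ∈ L := ⟨hu, mem_centralizer_iff.2 fun x hx => (hcen x hx).symm⟩
      rw [e, mem_bot] at this
      rw [this, map_one]
    · exfalso
      obtain ⟨u, hu, rfl⟩ := hs
      have : u ∈ L := e.symm ▸ hu
      exact hsx (mem_centralizer_iff.1 this.2 x₀ hx₀).symm
  let D : G → Subgroup G := fun x => M' ⊓ centralizer {x}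
  have hcardD : ∀ x ∈ N, ∀ y ∈ N, x ≠ 1 → y ≠ 1 → Nat.card (D y) = Nat.card (D x) := by
    intro x hx y hy hx1 hy1
    obtain ⟨k, hk, hk'⟩ := h.transitive hx hy hx1 hy1
    rw [← map_cj_card (D x) k]
    congr 1
    have e : D y = (D x).map (cj k) := by
      ext w
      simp only [D, mem_inf, mem_map_cj, mem_centralizer_singleton_iff]
      have hiff : ∀ v : G, v * (k * x * k⁻¹) = k * x * k⁻¹ * v ↔ v * y = y * v := fun v => by
        constructor
        · intro hv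
          obtain ⟨i, hi⟩ : y ∈ zpowers (k * x * k⁻¹) := hk' ▸ mem_zpowers y
          simp only at hi
          rw [← hi]
          exact (show Commute v (k * x * k⁻¹) from hv).zpow_right i
        · intro hv
          obtain ⟨i, hi⟩ : k * x * k⁻¹ ∈ zpowers y := hk' ▸ mem_zpowers (k * x * k⁻¹)
          simp only at hi
          rw [← hi]
          exact (show Commute v y from hv).zpow_right i
      have e1 : w * (k * x * k⁻¹) = k * x * k⁻¹ * w ↔ k⁻¹ * w * k * x = x * (k⁻¹ * w * k) := by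
        constructor <;> intro he
        · calc k⁻¹ * w * k * x = k⁻¹ * (w * (k * x * k⁻¹)) * k := by group
            _ = _ := by rw [he]; group
        · calc w * (k * x * k⁻¹) = k * (k⁻¹ * w * k * x) * k⁻¹ := by group
            _ = _ := by rw [he]; group
      constructor
      · rintro ⟨hw, hc⟩
        exact ⟨by simpa using hconjM k⁻¹ (inv_mem hk) w hw, e1.1 ((hiff w).2 hc)⟩
      · rintro ⟨hw, hc⟩
        refine ⟨?_, (hiff w).1 (e1.2 hc)⟩
        simpa [mul_assoc] using hconjM k hk _ hw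
    rw [e]
  -- a point with nontrivial kernel
  obtain ⟨l₁, hl₁, hl₁1, u, hu, hu1, hul⟩ : ∃ l ∈ N, l ≠ 1 ∧ ∃ u ∈ M', u ≠ 1 ∧ u * l = l * u := by
    by_contra hall
    push Not at hall
    have hgen := Coprime.fixedGen_eq hcyc (A := M') (K := N) le_normalizer_of_normal (hcop M' hMK)
    refine hne (le_bot_iff.1 (hgen ▸ iSup₂_le fun u hu x hx => ?_))
    rw [mem_bot]
    by_contra hx1
    obtain ⟨hxN, hxu⟩ := mem_inf.1 hx
    exact hall x hxN hx1 u hu.1 hu.2 (mem_centralizer_singleton_iff.1 hxu).symm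
  set D₁ := D l₁ with hD₁
  have hD₁ne : ¬ M' ≤ D₁ := by
    intro hle
    refine hsx ?_
    by_cases hx1 : x₀ = 1
    · rw [hx1, mul_one, one_mul]
    have h1 := hcardD l₁ hl₁ x₀ hx₀ hl₁1 hx1
    have h2 : D x₀ = M' := eq_of_le_of_card_ge inf_le_left (by
      rw [h1]; exact Nat.card_mono (Set.toFinite _) hle)
    have h3 : s ∈ D x₀ := h2.symm ▸ hs
    exact mem_centralizer_singleton_iff.1 h3.2
  set W := N ⊓ centralizer (D₁ : Set G) with hW
  have hD₁n : D₁ ≤ normalizer (N : Set G) := le_normalizer_of_normal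
  have hD₁c : (Nat.card D₁).Coprime (Nat.card N) := hcop D₁ (inf_le_left.trans hMK)
  have hsolvN : Group.IsSolvable N := Coprime.isSolvable_of_isMulCommutative N
  have hinf := Coprime.inf_centralizer_inf_commutator (A := D₁) (V := N) hD₁n hD₁c
  have hsup := Coprime.commutator_sup_inf_centralizer (A := D₁) (K := N) hD₁n hD₁c (Or.inr hsolvN)
  obtain ⟨l₂, hl₂, hl₂1⟩ : ∃ l ∈ ⁅N, D₁⁆, l ≠ 1 := by
    by_contra hall
    push Not at hall
    have hb : ⁅N, D₁⁆ = ⊥ := (eq_bot_iff_forall _).2 hall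
    rw [hb, bot_sup_eq] at hsup
    refine hu1 (hfaith u hu fun x hx => ?_)
    have : x ∈ N ⊓ centralizer (D₁ : Set G) := hsup.symm ▸ hx
    exact mem_centralizer_iff.1 this.2 u
      (show u ∈ D₁ from ⟨hu, mem_centralizer_singleton_iff.2 hul⟩)
  have hcN : ⁅N, D₁⁆ ≤ N := Coprime.commutator_le_of_le_normalizer hD₁n
  have hl₁W : l₁ ∈ W :=
    ⟨hl₁, mem_centralizer_iff.2 fun d hd => mem_centralizer_singleton_iff.1 (mem_inf.1 hd).2⟩
  have hmul1 : l₁ * l₂ ≠ 1 := fun e => hl₂1 (by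
    have h1 : l₂ ∈ W ⊓ ⁅N, D₁⁆ := ⟨by rw [eq_inv_of_mul_eq_one_right e]; exact W.inv_mem hl₁W, hl₂⟩
    rwa [hW, hinf, mem_bot] at h1)
  have hnot : ¬ D₁ ≤ D l₂ := by
    intro hle
    have h1 : l₂ ∈ W ⊓ ⁅N, D₁⁆ := ⟨⟨hcN hl₂, mem_centralizer_iff.2 fun d hd =>
      mem_centralizer_singleton_iff.1 (mem_inf.1 (hle hd)).2⟩, hl₂⟩
    exact hl₂1 (by rwa [hW, hinf, mem_bot] at h1)
  -- the kernel of the product is too small
  have hle : D (l₁ * l₂) ≤ D₁ ⊓ D l₂ := by
    intro d hd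
    obtain ⟨hdM, hdc⟩ := mem_inf.1 hd
    rw [mem_centralizer_singleton_iff] at hdc
    have hdD : ∀ e ∈ D₁, d * e = e * d := fun e he =>
      GenA.AbelianConj.mul_comm_of (inferInstance : IsMulCommutative M') hdM (mem_inf.1 he).1
    have hW1 : d * l₁ * d⁻¹ ∈ W := by
      refine ⟨hNn.conj_mem _ hl₁ d, mem_centralizer_iff.2 fun e he => ?_⟩
      have hel : e * l₁ = l₁ * e := mem_centralizer_iff.1 hl₁W.2 e he
      have hed : Commute e d := (hdD e he).symm
      exact ((hed.mul_right (show Commute e l₁ from hel)).mul_right hed.inv_right).eq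
    have hC2 : d * l₂ * d⁻¹ ∈ ⁅N, D₁⁆ := by
      have hdn : d ∈ normalizer ((⁅N, D₁⁆ : Subgroup G) : Set G) := by
        refine Coprime.FrobeniusPGroup.mem_normalizer_commutator ?_ ?_
        · exact mem_normalizer_iff.2 fun x => ⟨fun hx => hNn.conj_mem x hx d,
            fun hx => by simpa [mul_assoc] using hNn.conj_mem _ hx d⁻¹⟩
        · refine EqualOrderConj.mem_normalizer_of_conj_mem fun e he => ?_
          rw [hdD e he, mul_inv_cancel_right]; exact he
      exact (mem_normalizer_iff.1 hdn l₂).1 hl₂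
    have heq : (d * l₁ * d⁻¹) * (d * l₂ * d⁻¹) = l₁ * l₂ := by
      rw [show d * l₁ * d⁻¹ * (d * l₂ * d⁻¹) = d * (l₁ * l₂) * d⁻¹ by group, hdc, mul_inv_cancel_right]
    have h1 : l₁⁻¹ * (d * l₁ * d⁻¹) = l₂ * (d * l₂ * d⁻¹)⁻¹ := by
      rw [eq_mul_inv_iff_mul_eq, mul_assoc, heq, inv_mul_cancel_left]
    have h2 : l₁⁻¹ * (d * l₁ * d⁻¹) ∈ W ⊓ ⁅N, D₁⁆ :=
      ⟨W.mul_mem (W.inv_mem hl₁W) hW1, h1 ▸ Subgroup.mul_mem _ hl₂ (Subgroup.inv_mem _ hC2)⟩
    rw [hW, hinf, mem_bot] at h2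
    have h3 : d * l₁ = l₁ * d := mul_inv_eq_iff_eq_mul.1 (inv_mul_eq_one.1 h2).symm
    have h4 : d * l₂ = l₂ * d := by
      refine mul_inv_eq_iff_eq_mul.1 ?_
      rw [h1] at h2
      exact (mul_inv_eq_one.1 h2).symm
    exact ⟨⟨hdM, mem_centralizer_singleton_iff.2 h3⟩, ⟨hdM, mem_centralizer_singleton_iff.2 h4⟩⟩
  have hlt' : D₁ ⊓ D l₂ < D₁ := lt_of_le_of_ne inf_le_left fun e => hnot (inf_eq_left.1 e)
  have hcD := hcardD l₁ hl₁ (l₁ * l₂) (N.mul_mem hl₁ (hcN hl₂)) hl₁1 hmul1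
  exact hlt'.ne (eq_of_le_of_card_ge inf_le_left
    (hcD ▸ Nat.card_mono (Set.toFinite _) hle))

/-- The stabilizer in `K` of a proper subgroup in each `O_p(G)` has cyclic Sylow subgroups. -/
theorem isCyclic_of_le {X : Subgroup G}
    (hX : ∀ p : ℕ, p.Prime → pCore p G ≠ ⊥ → X ⊓ pCore p G ≠ ⊥ ∧ ¬ pCore p G ≤ X)
    {r : ℕ} [hr : Fact r.Prime] {D : Subgroup G} (hDK : D ≤ K) (hDX : D ≤ normalizer (X : Set G))
    (hD : IsPGroup r D) : IsCyclic D := by
  classical
  haveI := h.solv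
  haveI : Group.IsSolvable K := inferInstance
  set D' := D.subgroupOf K with hD'
  have hD'p : IsPGroup r D' := hD.of_equiv (subgroupOfEquivOfLe hDK).symm
  suffices IsCyclic D' from isCyclic_of_surjective (subgroupOfEquivOfLe hDK).toMonoidHom
    (subgroupOfEquivOfLe hDK).surjective
  rcases PGroups.UniqueSubgroup.isCyclic_or_quaternion hD'p
      (unique_of_rankOne (rankOne_subgroup (rankOne h.hyp_K h.smallMinimal r) D') hD'p) with
    hc | ⟨rfl, n, hn⟩
  · exact hc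
  by_contra hncyc
  obtain ⟨z, hzo, hzD, hzc, hzd, d, hd, e, he, hde⟩ :=
    exists_central_involution h.hyp_K h.smallMinimal D' hD'p hncyc
  have hzo' : orderOf (z : G) = 2 := by rw [orderOf_coe]; exact hzo
  have hzK : ∀ g ∈ K, g * (z : G) = z * g := fun g hg => congrArg Subtype.val (hzc ⟨g, hg⟩)
  obtain ⟨p, hp, w, hw, x₀, hx₀, hwx⟩ := h.exists_moved (S := zpowers (z : G)) (zpowers_le.2 z.2)
    (fun e => by
      have := mem_bot.1 (e ▸ mem_zpowers (z : G))
      rw [this, orderOf_one] at hzo'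
      exact absurd hzo' (by norm_num))
  have hne : pCore p G ≠ ⊥ := fun e => hwx (by
    rw [e, mem_bot] at hx₀; rw [hx₀, mul_one, one_mul])
  obtain ⟨hNc, hNexp, hNp⟩ := h.pCore_data p hne
  set N := pCore p G with hN
  haveI hNn : N.Normal := by rw [hN]; infer_instance
  have hcN : ∀ a ∈ N, ∀ b ∈ N, a * b = b * a := fun a ha b hb => GenA.AbelianConj.mul_comm_of hNc ha hb
  have hx₀1 : x₀ ≠ 1 := fun e => hwx (by rw [e, mul_one, one_mul])
  have hfix : ∀ x ∈ N, (z : G) * x = x * z → x = 1 := by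
    intro x hx hzx
    by_contra hx1
    obtain ⟨i, rfl⟩ := hw
    refine hwx ((show Commute (z : G) x₀ from ?_).zpow_left i)
    obtain ⟨k, hk, hk'⟩ := h.transitive hx hx₀ hx1 hx₀1
    obtain ⟨j, hj⟩ : x₀ ∈ zpowers (k * x * k⁻¹) := hk' ▸ mem_zpowers x₀
    simp only at hj
    rw [← hj]
    refine Commute.zpow_right ?_ j
    have hzk : Commute (z : G) k := (hzK k hk).symm
    exact (hzk.mul_right hzx).mul_right hzk.inv_right
  have hz2 : (z : G) ^ 2 = 1 := hzo' ▸ pow_orderOf_eq_one _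
  have hzinv : (z : G)⁻¹ = z := inv_eq_of_mul_eq_one_right (by rw [← sq, hz2])
  have hinv : ∀ a ∈ N, (z : G) * a * (z : G)⁻¹ = a⁻¹ := by
    intro a ha
    have hb : (z : G) * a * (z : G)⁻¹ ∈ N := hNn.conj_mem a ha z
    refine eq_inv_of_mul_eq_one_right (hfix _ (mul_mem ha hb) (mul_inv_eq_iff_eq_mul.1 ?_))
    calc (z : G) * (a * ((z : G) * a * (z : G)⁻¹)) * (z : G)⁻¹
        = (z : G) * a * (z : G)⁻¹ * ((z : G) ^ 2 * a * ((z : G) ^ 2)⁻¹) := by group
      _ = (z : G) * a * (z : G)⁻¹ * a := by rw [hz2]; simp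
      _ = _ := (hcN _ ha _ hb).symm
  have hp2 : p ≠ 2 := by
    rintro rfl
    have h1 : 2 ∣ Nat.card K := hzo' ▸ K.orderOf_dvd_natCard z.2
    have h2 : 2 ∣ Nat.card (fittingSubgroup G) := by
      have h3 : orderOf x₀ = 2 := orderOf_eq_prime (hNexp x₀ hx₀) hx₀1
      exact h3 ▸ (fittingSubgroup G).orderOf_dvd_natCard (h.pCore_le 2 hx₀)
    exact Nat.not_coprime_of_dvd_of_dvd one_lt_two h2 h1 h.cop
  obtain ⟨m, hm⟩ := hNp.exists_card_eq
  have hm3 : m ≤ 3 := by
    by_contra hlt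
    have := Involutions.EqualOrderConj.Frame.main N hNc hNexp (h.sylow p hp.out hne).1 (n := m)
      (by omega) hm (fun A B hA hB hAB => by
        obtain ⟨g, hg⟩ := h.hyp A B
          (GenA.AbelianConj.isMulCommutative_of fun a ha b hb => hcN a (hA ha) b (hA hb))
          (GenA.AbelianConj.isMulCommutative_of fun a ha b hb => hcN a (hB ha) b (hB hb)) hAB
        exact ⟨g, hg.symm⟩) inferInstance
    rcases this with ⟨h3, -⟩ | ⟨-, h2, -⟩
    · omega
    · exact hp2 h2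
  obtain ⟨hXne, hXle⟩ := hX p hp.out hne
  set Xp := X ⊓ N with hXp
  obtain ⟨a, ha⟩ := (hNp.to_le (inf_le_right : Xp ≤ N)).exists_card_eq
  have ha0 : a ≠ 0 := fun e => hXne (card_eq_one.1 (by rw [ha, e, pow_zero]))
  have ham : a < m := by
    by_contra hle'
    refine hXle (le_trans (le_of_eq (eq_of_le_of_card_ge (inf_le_right : Xp ≤ N) ?_).symm) inf_le_left)
    rw [ha, hm]
    exact Nat.pow_le_pow_right hp.out.pos (by omega)
  -- a commutator whose powers contain `z`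
  set c : G := (d : G)⁻¹ * (e : G)⁻¹ * d * e with hc
  have hc1 : c ≠ 1 := comm_ne_one fun he' => hde (Subtype.ext he')
  obtain ⟨l, hl⟩ : ∃ l : ℕ, c ^ l = z := by
    have := hzd (d⁻¹ * e⁻¹ * d * e) (D'.mul_mem (D'.mul_mem (D'.mul_mem (D'.inv_mem hd) (D'.inv_mem he)) hd) he)
      (comm_ne_one hde)
    obtain ⟨l, hl⟩ := mem_zpowers_iff_mem_range_orderOf.1 this |> Finset.mem_image.1
    exact ⟨l, by simpa [hc] using congrArg Subtype.val hl.2⟩
  have hnorm : ∀ g ∈ D', ∀ x ∈ Xp, (g : G) * x * (g : G)⁻¹ ∈ Xp := fun g hg x hx =>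
    ⟨(mem_normalizer_iff.1 (hDX hg) x).1 hx.1, hNn.conj_mem x hx.2 g⟩
  by_cases ha1 : a = 1
  · -- a line
    obtain ⟨x, hx, hx1⟩ := Xp.bot_or_exists_ne_one.resolve_left hXne
    obtain ⟨hxX, -⟩ := zpowers_eq_of_card (r := p) (by rw [ha, ha1, pow_one]) hx hx1
    have h1 : Commute c x := commute_of_normalize (hxX.symm ▸ hnorm d hd x hx)
      (hxX.symm ▸ hnorm e he x hx)
    exact hx1 (hfix x hx.2 (hl ▸ (h1.pow_left l).eq))
  · -- a hyperplane
    have hma : m = a + 1 := by omega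
    obtain ⟨n₀, hn₀, hn₀X⟩ : ∃ n₀ ∈ N, n₀ ∉ Xp := by
      by_contra hall
      push Not at hall
      exact hXle (le_trans hall inf_le_left)
    have hcomm0 : ∀ b ∈ Xp, ∀ i : ℤ, n₀ ^ i * b = b * n₀ ^ i := fun b hb i =>
      hcN _ (zpow_mem hn₀ i) _ hb.2
    have hzn : zpowers n₀ ≤ normalizer (Xp : Set G) := zpowers_le.2
      (EqualOrderConj.mem_normalizer_of_conj_mem fun b hb => by
        rw [hcN _ hn₀ _ hb.2, mul_inv_cancel_right]; exact hb)
    have hspan : ∀ y ∈ N, ∃ i : ℤ, y * (n₀ ^ i)⁻¹ ∈ Xp := by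
      have hsupN : Xp ⊔ zpowers n₀ ≤ N := sup_le inf_le_right (zpowers_le.2 hn₀)
      obtain ⟨b, hb⟩ := (hNp.to_le hsupN).exists_card_eq
      have hlt2 : Xp < Xp ⊔ zpowers n₀ :=
        lt_of_le_of_ne le_sup_left fun e => hn₀X (e ▸ mem_sup_right (mem_zpowers n₀))
      have hab' : a < b := by
        by_contra hba
        refine hlt2.ne (eq_of_le_of_card_ge le_sup_left ?_)
        rw [ha, hb]
        exact Nat.pow_le_pow_right hp.out.pos (by omega)
      have he' : Xp ⊔ zpowers n₀ = N := eq_of_le_of_card_ge hsupN (by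
        rw [hb, hm]
        exact Nat.pow_le_pow_right hp.out.pos (by omega))
      intro y hy
      obtain ⟨x, hx, _, ⟨i, rfl⟩, rfl⟩ := (Coprime.mem_sup_of_le_normalizer hzn).1 (he'.symm ▸ hy)
      exact ⟨i, by rw [mul_inv_cancel_right]; exact hx⟩
    have hact : ∀ g ∈ D', ∀ g' ∈ D', ∀ i j : ℤ,
        (g : G) * n₀ * (g : G)⁻¹ * (n₀ ^ i)⁻¹ ∈ Xp → (g' : G) * n₀ * (g' : G)⁻¹ * (n₀ ^ j)⁻¹ ∈ Xp →
        (g : G) * g' * n₀ * ((g : G) * g')⁻¹ * (n₀ ^ (i * j))⁻¹ ∈ Xp := by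
      intro g hg g' hg' i j hi hj
      have h1 := hnorm g hg _ hj
      -- the `j`th power of the congruence for `g`
      have h2 : ((g : G) * n₀ * (g : G)⁻¹) ^ j * (n₀ ^ (i * j))⁻¹ ∈ Xp := by
        have hcm : Commute ((g : G) * n₀ * (g : G)⁻¹) (n₀ ^ i)⁻¹ :=
          hcN _ (hNn.conj_mem _ hn₀ g) _ (inv_mem (zpow_mem hn₀ i))
        have := zpow_mem hi j
        rwa [hcm.mul_zpow, inv_zpow, ← zpow_mul] at this
      have := mul_mem h1 h2
      rwa [show (g : G) * ((g' : G) * n₀ * (g' : G)⁻¹ * (n₀ ^ j)⁻¹) * (g : G)⁻¹ *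
          (((g : G) * n₀ * (g : G)⁻¹) ^ j * (n₀ ^ (i * j))⁻¹) =
          (g : G) * g' * n₀ * ((g : G) * g')⁻¹ * (n₀ ^ (i * j))⁻¹ by
        rw [conj_zpow]; group] at this
    obtain ⟨i, hi⟩ := hspan _ (hNn.conj_mem _ hn₀ d)
    obtain ⟨j, hj⟩ := hspan _ (hNn.conj_mem _ hn₀ e)
    have hA := hact d hd e he i j hi hj
    have hB := hact e he d hd j i hj hi
    rw [mul_comm j i] at hB
    have hde' : (d : G) * e * n₀ * ((d : G) * e)⁻¹ * ((e : G) * d * n₀ * ((e : G) * d)⁻¹)⁻¹ ∈ Xp := by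
      have := mul_mem hA (inv_mem hB)
      simpa [mul_assoc] using this
    have hcn : c * n₀ * c⁻¹ * n₀⁻¹ ∈ Xp := by
      have h1 := hnorm (e * d)⁻¹ (D'.inv_mem (D'.mul_mem he hd)) _ hde'
      have he2 : c * n₀ * c⁻¹ * n₀⁻¹ = (((e * d)⁻¹ : K) : G) *
          ((d : G) * e * n₀ * ((d : G) * e)⁻¹ * ((e : G) * d * n₀ * ((e : G) * d)⁻¹)⁻¹) *
          (((e * d)⁻¹ : K) : G)⁻¹ := by
        push_cast
        rw [hc]
        group
      rw [he2]
      exact h1
    have hpow : ∀ l : ℕ, c ^ l * n₀ * (c ^ l)⁻¹ * n₀⁻¹ ∈ Xp := by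
      intro l
      induction l with
      | zero => simp
      | succ l ih =>
        have hcD : (d⁻¹ * e⁻¹ * d * e) ∈ D' :=
          D'.mul_mem (D'.mul_mem (D'.mul_mem (D'.inv_mem hd) (D'.inv_mem he)) hd) he
        have h1 := mul_mem (hnorm _ hcD _ ih) hcn
        rw [show (((d⁻¹ * e⁻¹ * d * e : K) : G)) = c by rw [hc]; push_cast; rfl] at h1
        rw [pow_succ']
        simpa [mul_assoc] using h1
    have h2 := hpow l
    rw [hl, hinv n₀ hn₀] at h2
    obtain ⟨t, ht⟩ := hp.out.odd_of_ne_two hp2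
    refine hn₀X ?_
    have h3 := pow_mem h2 t
    rwa [show (n₀⁻¹ * n₀⁻¹) ^ t = n₀ by
      rw [← mul_inv_rev, inv_pow, inv_eq_iff_mul_eq_one, ← sq, ← pow_mul, ← pow_succ, ← ht,
        hNexp n₀ hn₀]] at h3

end Frame

end Cfsg.Agent.EqualOrderConj.Abelian
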