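import Mathlib
import Cfsg.Agent.Lib.EqualOrderConj.Abelian.Faithful
import Cfsg.Agent.GStructB.ConjSameOrder
import Cfsg.Agent.S4022

/-!
# Solvable groups with conjugate abelian subgroups of equal order: all subgroups of equal order are conjugate
-/

set_option autoImplicit false

namespace Cfsg.Agent.EqualOrderConj.Abelian

open Subgroup Cfsg
open GenA.AbelianConj (Hyp)
open scoped Pointwise

universe u

variable {G : Type u} [Group G] [Finite G]

theorem eq_sylow {p : ℕ} [Fact p.Prime] {N : Subgroup G} [N.Normal] (hN : IsPGroup p N)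
    (hidx : ¬ p ∣ N.index) (P : Sylow p G) : (P : Subgroup G) = N := by
  have hle : N ≤ P := (PLocal.Cores.le_pCore hN).trans (PLocal.Cores.pCore_le_sylow P)
  obtain ⟨k, hk⟩ := hN.exists_card_eq
  refine (eq_of_le_of_card_ge hle ?_).symm
  have hv := Nat.factorization_mul (Nat.card_pos (α := N)).ne' (index_ne_zero_of_finite (H := N))
  rw [N.card_mul_index] at hv
  rw [P.card_eq_multiplicity, hv, Finsupp.add_apply, Nat.factorization_eq_zero_of_not_dvd hidx,
    add_zero, hk, Nat.Prime.factorization_pow Fact.out, Finsupp.single_eq_same]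

/-- The position of `A` against a normal Sylow subgroup. -/
theorem card_inf_sylow {p : ℕ} [Fact p.Prime] {N : Subgroup G} [N.Normal] (hN : IsPGroup p N)
    (hidx : ¬ p ∣ N.index) (A : Subgroup G) :
    Nat.card ↥(A ⊓ N) = p ^ (Nat.card A).factorization p := by
  obtain ⟨S⟩ : Nonempty (Sylow p A) := inferInstance
  obtain ⟨k, hk⟩ := (hN.to_le (inf_le_right : A ⊓ N ≤ N)).exists_card_eq
  have h1 : p ^ k ∣ Nat.card A := hk ▸ card_dvd_of_le inf_le_left
  have h2 : (S : Subgroup A).map A.subtype ≤ A ⊓ N := by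
    obtain ⟨P, hP⟩ := (S.2.map A.subtype).exists_le_sylow
    exact le_inf (map_subtype_le _) (hP.trans (eq_sylow hN hidx P).le)
  have h3 := card_dvd_of_le h2
  rw [card_subtype, S.card_eq_multiplicity, hk] at h3
  rw [hk]
  refine Nat.dvd_antisymm ?_ h3
  exact pow_dvd_pow p ((Nat.Prime.pow_dvd_iff_le_factorization Fact.out Nat.card_pos.ne').1 h1)

theorem dichotomy (hG : Hyp G) {p : ℕ} [hp : Fact p.Prime] (N : Subgroup G) [N.Normal] (hN : N ≠ ⊥)
    (hab : IsMulCommutative N) (hexp : ∀ x ∈ N, x ^ p = 1) {A B : Subgroup G}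
    (hAB : Nat.card A = Nat.card B) :
    (N ≤ A ∧ N ≤ B) ∨ (A ⊓ N = ⊥ ∧ B ⊓ N = ⊥ ∧ ¬ p ∣ Nat.card A) ∨
      (¬ p ∣ N.index ∧ A ⊓ N ≠ ⊥ ∧ B ⊓ N ≠ ⊥ ∧ ¬ N ≤ A ∧ ¬ N ≤ B) := by
  have hNp : IsPGroup p N := Solvable.Basics.isPGroup_of_forall_pow_eq_one hexp
  have hbot : ∀ C : Subgroup G, ¬ p ∣ Nat.card C → C ⊓ N = ⊥ := by
    intro C hC
    obtain ⟨k, hk⟩ := hNp.exists_card_eq
    exact inf_eq_bot_of_coprime (hk ▸ ((hp.out.coprime_iff_not_dvd.2 hC).symm.pow_right k))
  rcases GenA.AbelianConj.prime_or_sylow hG N hN hab hexp with ⟨hc, hall⟩ | hidx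
  · by_cases hd : p ∣ Nat.card A
    · refine Or.inl ?_
      have key : ∀ C : Subgroup G, p ∣ Nat.card C → N ≤ C := by
        intro C hC
        obtain ⟨x, hx⟩ := exists_prime_orderOf_dvd_card' (G := C) p hC
        have hxo : orderOf (x : G) = p := by rw [orderOf_coe, hx]
        have hx1 : (x : G) ≠ 1 := fun e => hp.out.ne_one (by rw [← hxo, e, orderOf_one])
        rw [← (zpowers_eq_of_card hc (hall _ (hxo ▸ pow_orderOf_eq_one _)) hx1).1]
        exact zpowers_le.2 x.2
      exact ⟨key A hd, key B (hAB ▸ hd)⟩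
    · exact Or.inr (Or.inl ⟨hbot A hd, hbot B (hAB ▸ hd), hd⟩)
  by_cases hd : p ∣ Nat.card A
  · by_cases hle : N ≤ A
    · refine Or.inl ⟨hle, ?_⟩
      have h1 := card_inf_sylow hNp hidx B
      rw [← hAB, ← card_inf_sylow hNp hidx A, inf_eq_right.2 hle] at h1
      exact inf_eq_right.1 (eq_of_le_of_card_ge inf_le_right h1.ge)
    · have hne : ∀ C : Subgroup G, p ∣ Nat.card C → C ⊓ N ≠ ⊥ := by
        intro C hC e
        have h1 := card_inf_sylow hNp hidx C
        rw [e, card_bot] at h1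
        have h2 := hp.out.factorization_pos_of_dvd Nat.card_pos.ne' hC
        exact (Nat.one_lt_pow h2.ne' hp.out.one_lt).ne h1
      refine Or.inr (Or.inr ⟨hidx, hne A hd, hne B (hAB ▸ hd), hle, fun hB => hle ?_⟩)
      have h1 := card_inf_sylow hNp hidx A
      rw [hAB, ← card_inf_sylow hNp hidx B, inf_eq_right.2 hB] at h1
      exact inf_eq_right.1 (eq_of_le_of_card_ge inf_le_right h1.ge)
  · exact Or.inr (Or.inl ⟨hbot A hd, hbot B (hAB ▸ hd), hd⟩)

/-- `C` is `X R` up to an element of `F`, with `R` in `K ∩ N(X)`. -/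
theorem split {K : Subgroup G} (h : Frame G K) (C : Subgroup G) :
    ∃ f ∈ fittingSubgroup G, ∃ R : Subgroup G, R ≤ K ⊓ normalizer ((C ⊓ fittingSubgroup G : Subgroup G) : Set G) ∧
      C.map (cj f) = (C ⊓ fittingSubgroup G) ⊔ R ∧
      Nat.card C = Nat.card ↥(C ⊓ fittingSubgroup G) * Nat.card R := by
  set F := fittingSubgroup G with hF
  haveI hFn : F.Normal := by rw [hF]; infer_instance
  haveI : (F.subgroupOf C).Normal := inferInstance
  have hidxF : F.index = Nat.card K := h.compl.symm.index_eq_card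
  have hc1 : Nat.card (F.subgroupOf C) = Nat.card ↥(C ⊓ F) := by
    rw [← card_subtype, subgroupOf_map_subtype, inf_comm]
  have hrel : (F.subgroupOf C).index ∣ Nat.card K := hidxF ▸ relIndex_dvd_index_of_normal F C
  obtain ⟨C₀, hC₀⟩ := exists_right_complement'_of_coprime (N := F.subgroupOf C)
    ((h.cop.coprime_dvd_right hrel).coprime_dvd_left (hc1 ▸ card_dvd_of_le inf_le_right))
  set R₀ := C₀.map C.subtype with hR₀
  have hcR : Nat.card R₀ = (F.subgroupOf C).index := by
    rw [card_subtype, hC₀.symm.index_eq_card]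
  have hC : C = (C ⊓ F) ⊔ R₀ := by
    conv_lhs => rw [← range_subtype C, MonoidHom.range_eq_map, ← hC₀.sup_eq_top, Subgroup.map_sup,
      subgroupOf_map_subtype, inf_comm]
  -- move `R₀` into `K` by an element of `F`
  set K₁ := K ⊓ (F ⊔ R₀) with hK₁
  have hsup : F ⊔ R₀ = F ⊔ K₁ := by
    refine le_antisymm ?_ (sup_le le_sup_left inf_le_right)
    refine sup_le le_sup_left fun x hx => ?_
    have : x ∈ F ⊔ K := by rw [h.compl.sup_eq_top]; exact mem_top _
    obtain ⟨f, hf, k, hk, rfl⟩ := mem_sup_of_normal_left.1 this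
    refine mul_mem (mem_sup_left hf) (mem_sup_right (mem_inf.2 ⟨hk, ?_⟩))
    have h2 : (f : G)⁻¹ * (f * k) ∈ F ⊔ R₀ := mul_mem (mem_sup_left (inv_mem hf)) (mem_sup_right hx)
    rwa [inv_mul_cancel_left] at h2
  have hFs : Group.IsSolvable F := by haveI := h.solv; infer_instance
  obtain ⟨f, hf, hfR⟩ := Coprime.exists_conj_eq_of_sup_eq (N := F) (H := R₀) (K := K₁)
    le_normalizer_of_normal le_normalizer_of_normal hsup
    (h.cop.coprime_dvd_right (hcR ▸ hrel)) (h.cop.coprime_dvd_right (card_dvd_of_le inf_le_left))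
    (Or.inl hFs)
  refine ⟨f, hf, R₀.map (cj f), le_inf ?_ ?_, ?_, ?_⟩
  · rw [← Coprime.conj_smul_eq_map] at *
    exact hfR.le.trans inf_le_left
  · rintro _ ⟨r, hr, rfl⟩
    have hfX := h.fixes hf (X := C ⊓ F) inf_le_right
    refine EqualOrderConj.mem_normalizer_of_conj_mem fun a ha => ?_
    rw [← hfX, mem_map_cj]
    have ha' : f⁻¹ * a * f ∈ C ⊓ F := mem_map_cj.1 (hfX.symm ▸ ha)
    have hrC : r ∈ C := map_subtype_le _ hr
    have h3 : r * (f⁻¹ * a * f) * r⁻¹ ∈ C ⊓ F :=
      ⟨C.mul_mem (C.mul_mem hrC ha'.1) (C.inv_mem hrC), hFn.conj_mem _ ha'.2 r⟩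
    convert h3 using 1
    show f⁻¹ * (f * r * f⁻¹ * a * (f * r * f⁻¹)⁻¹) * f = _
    group
  · conv_lhs => rw [hC]
    rw [Subgroup.map_sup, h.fixes hf inf_le_right]
  · rw [map_cj_card, hcR, ← hc1, card_mul_index]

theorem bad_case {K : Subgroup G} (h : Frame G K) {A B : Subgroup G} (hAB : Nat.card A = Nat.card B)
    (hX : ∀ p : ℕ, p.Prime → pCore p G ≠ ⊥ → B ⊓ pCore p G ≠ ⊥ ∧ ¬ pCore p G ≤ B) :
    ∃ g : G, B = A.map (cj g) := by
  haveI := h.solv
  set F := fittingSubgroup G with hF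
  haveI hFn : F.Normal := by rw [hF]; infer_instance
  have hidxF : F.index = Nat.card K := h.compl.symm.index_eq_card
  have hgcd : ∀ C : Subgroup G, Nat.card ↥(C ⊓ F) = (Nat.card C).gcd (Nat.card F) := by
    intro C
    have h1 : Nat.card C = Nat.card ↥(C ⊓ F) * (F.subgroupOf C).index := by
      rw [← (F.subgroupOf C).card_mul_index, ← card_subtype C (F.subgroupOf C), subgroupOf_map_subtype, inf_comm]
    have h2 : (F.subgroupOf C).index.Coprime (Nat.card F) :=
      h.cop.symm.coprime_dvd_left (hidxF ▸ relIndex_dvd_index_of_normal F C)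
    rw [h1, Nat.Coprime.gcd_mul_right_cancel _ h2, Nat.gcd_eq_left (card_dvd_of_le inf_le_right)]
  obtain ⟨g, hg⟩ := h.hyp (A ⊓ F) (B ⊓ F)
    (GenA.AbelianConj.isMulCommutative_of fun a ha b hb => h.comm a ha.2 b hb.2)
    (GenA.AbelianConj.isMulCommutative_of fun a ha b hb => h.comm a ha.2 b hb.2)
    (by rw [hgcd, hgcd, hAB])
  set A₁ := A.map (cj g) with hA₁
  set X := B ⊓ F with hXdef
  have hA₁X : A₁ ⊓ F = X := by
    refine Eq.trans ?_ hg.symm
    conv_lhs => rw [show F = F.map (cj g) from (map_cj_eq_self (le_normalizer_of_normal (mem_top g))).symm]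
    exact (Subgroup.map_inf A F (cj g) (MulAut.conj g).injective).symm
  obtain ⟨f₁, hf₁, R₁, hR₁, hA₁R, hc₁⟩ := split h A₁
  obtain ⟨f₂, hf₂, R₂, hR₂, hBR, hc₂⟩ := split h B
  rw [← hF, hA₁X] at hR₁ hA₁R hc₁
  rw [← hF, ← hXdef] at hR₂ hBR hc₂
  have hcR : Nat.card R₁ = Nat.card R₂ := by
    refine Nat.eq_of_mul_eq_mul_left (Nat.card_pos (α := X)) ?_
    rw [← hc₁, ← hc₂, hA₁, map_cj_card, hAB]
  set H := K ⊓ normalizer (X : Set G) with hH
  have hX' : ∀ p : ℕ, p.Prime → pCore p G ≠ ⊥ → X ⊓ pCore p G ≠ ⊥ ∧ ¬ pCore p G ≤ X := by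
    intro p hp hne
    haveI := Fact.mk hp
    obtain ⟨h1, h2⟩ := hX p hp hne
    refine ⟨?_, fun hle => h2 (hle.trans inf_le_left)⟩
    rwa [hXdef, inf_assoc, inf_eq_right.2 (h.pCore_le p)]
  have hcyc : ∀ p : ℕ, p.Prime → ∀ P : Sylow p H, IsCyclic P := by
    intro p hp P
    haveI := Fact.mk hp
    haveI := h.isCyclic_of_le hX' (D := (P : Subgroup H).map H.subtype)
      ((map_subtype_le _).trans inf_le_left) ((map_subtype_le _).trans inf_le_right) (P.2.map _)
    let e := (P : Subgroup H).equivMapOfInjective H.subtype H.subtype_injective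
    exact isCyclic_of_surjective e.symm.toMonoidHom e.symm.surjective
  obtain ⟨⟨k, hk⟩, hk'⟩ := S4022.result (G := H)
    (fun p hp => by haveI := Fact.mk hp; exact GStructB.ConjSameOrder.conjP_of_cyclic (hcyc p hp))
    0 (fun p hp _ => hcyc p hp) (R₁.subgroupOf H) (R₂.subgroupOf H)
    (by rw [Nat.card_congr (subgroupOfEquivOfLe hR₁).toEquiv,
      Nat.card_congr (subgroupOfEquivOfLe hR₂).toEquiv, hcR])
  have hR : R₂ = R₁.map (cj k) := by
    have h1 := congrArg (fun M : Subgroup H => M.map H.subtype) hk'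
    rw [Subgroup.map_map, map_subgroupOf_eq_of_le hR₂] at h1
    conv_rhs => rw [← map_subgroupOf_eq_of_le hR₁, Subgroup.map_map]
    exact h1
  refine ⟨f₂⁻¹ * k * f₁ * g, ?_⟩
  rw [map_cj_mul, map_cj_mul, map_cj_mul, ← hA₁, hA₁R, Subgroup.map_sup, ← hR,
    map_cj_eq_self hk.2, ← hBR, ← map_cj_mul, inv_mul_cancel]
  ext y
  rw [mem_map_cj]
  simp

theorem main : ∀ (n : ℕ) (G : Type u) [Group G] [Finite G] [Group.IsSolvable G], Nat.card G = n →
    Hyp G → ∀ A B : Subgroup G, Nat.card A = Nat.card B → ∃ g : G, B = A.map (cj g) := by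
  intro n
  induction n using Nat.strong_induction_on with
  | _ n ih => ?_
  intro G _ _ _ hn hG A B hAB
  by_cases hgood : ∃ (p : ℕ) (_ : Fact p.Prime) (N : Subgroup G) (_ : N.Normal), N ≠ ⊥ ∧ IsPGroup p N ∧
      ((N ≤ A ∧ N ≤ B) ∨ (A ⊓ N = ⊥ ∧ B ⊓ N = ⊥ ∧ ¬ p ∣ Nat.card A))
  · obtain ⟨p, _, N, _, hN, hNp, hcase⟩ := hgood
    set π := QuotientGroup.mk' N
    have hker : π.ker = N := QuotientGroup.ker_mk' N
    have hlt : Nat.card (G ⧸ N) < n := by
      rw [← hn, ← index_eq_card, ← N.card_mul_index]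
      exact lt_mul_left (Nat.pos_of_ne_zero index_ne_zero_of_finite) ((one_lt_card_iff_ne_bot _).2 hN)
    have hc : Nat.card (A.map π) = Nat.card (B.map π) := by
      have hA := PLocal.Cores.card_eq_card_inf_ker_mul_card_map A π
      have hB := PLocal.Cores.card_eq_card_inf_ker_mul_card_map B π
      rw [hker] at hA hB
      rcases hcase with ⟨h1, h2⟩ | ⟨h1, h2, -⟩
      · rw [inf_eq_right.2 h1] at hA
        rw [inf_eq_right.2 h2, ← hAB, hA] at hB
        exact Nat.eq_of_mul_eq_mul_left Nat.card_pos hB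
      · rw [h1, card_bot, one_mul] at hA
        rw [h2, card_bot, one_mul] at hB
        rw [← hA, ← hB, hAB]
    obtain ⟨g', hg'⟩ := ih _ hlt (G ⧸ N) rfl (GenA.AbelianConj.hyp_quotient hG N) _ _ hc
    obtain ⟨g, rfl⟩ := QuotientGroup.mk'_surjective N g'
    set A' := A.map (cj g) with hA'
    have hmap : A'.map π = B.map π := by
      rw [hg', hA', Subgroup.map_map, Subgroup.map_map]
      congr 1
    have hsup : A' ⊔ N = B ⊔ N := by
      have := congrArg (fun M => M.comap π) hmap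
      simpa [comap_map_eq, hker] using this
    rcases hcase with ⟨h1, h2⟩ | ⟨h1, h2, h3⟩
    · have h4 : N ≤ A' := by
        intro x hx
        exact mem_map_cj.2 (h1 (by
          simpa [mul_assoc] using (inferInstance : N.Normal).conj_mem x hx g⁻¹))
      rw [sup_eq_left.2 h4, sup_eq_left.2 h2] at hsup
      exact ⟨g, hsup.symm⟩
    · obtain ⟨g₂, hg₂⟩ := GStructB.ConjSameOrder.conj_of_sup_eq hNp
        (by rw [hA', map_cj_card]; exact h3) hsup (by rw [hA', map_cj_card, hAB])
      exact ⟨g₂ * g, by rw [map_cj_mul, ← hA', ← Coprime.conj_smul_eq_map, hg₂]⟩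
  -- all minimal normal subgroups are Sylow subgroups meeting `A`, `B` properly
  push Not at hgood
  have hcore : ∀ (p : ℕ) [Fact p.Prime], pCore p G ≠ ⊥ → ¬ p ∣ (pCore p G).index ∧
      (∀ a ∈ pCore p G, ∀ b ∈ pCore p G, a * b = b * a) ∧ (∀ a ∈ pCore p G, a ^ p = 1) ∧
      B ⊓ pCore p G ≠ ⊥ ∧ ¬ pCore p G ≤ B := by
    intro p hp hne
    haveI : (pCore p G).Normal := inferInstance
    obtain ⟨N, hNn, hNle, hNne, hNmin⟩ := Solvable.Basics.exists_minimal_normal hne
    haveI := hNn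
    obtain ⟨hab, q, hq, hexp⟩ := Solvable.Basics.minimal_normal_solvable inferInstance hNne hNmin
    haveI := Fact.mk hq
    obtain rfl : q = p := by
      obtain ⟨x, hx, hx1⟩ := N.bot_or_exists_ne_one.resolve_left hNne
      obtain ⟨k, hk⟩ := (PLocal.Cores.isPGroup_pCore (p := p) (G := G)) ⟨x, hNle hx⟩
      have h1 : x ^ p ^ k = 1 := congrArg Subtype.val hk
      have h3 : q ∣ p ^ k :=
        (orderOf_eq_prime (hexp x hx) hx1) ▸ orderOf_dvd_of_pow_eq_one h1
      exact (Nat.prime_dvd_prime_iff_eq hq hp.out).1 (hq.dvd_of_dvd_pow h3)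
    have hNp : IsPGroup q N := Solvable.Basics.isPGroup_of_forall_pow_eq_one hexp
    have hno := hgood q inferInstance N hNn hNne hNp
    rcases dichotomy hG N hNne hab hexp hAB with h1 | ⟨h1, h2, h3⟩ | ⟨h1, -, h2, -, h3⟩
    · exact absurd h1.2 (hno.1 h1.1)
    · exact absurd (hno.2 h1 h2) h3
    have he : pCore q G = N := by
      obtain ⟨P⟩ : Nonempty (Sylow q G) := inferInstance
      exact le_antisymm ((PLocal.Cores.pCore_le_sylow P).trans (eq_sylow hNp h1 P).le) hNle
    rw [he]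
    exact ⟨h1, fun a ha b hb => GenA.AbelianConj.mul_comm_of hab ha hb, hexp, h2, h3⟩
  have hcomm : ∀ a ∈ fittingSubgroup G, ∀ b ∈ fittingSubgroup G, a * b = b * a := by
    have key : ∀ p q : {p : ℕ // p.Prime}, pCore (p : ℕ) G ≤ centralizer (pCore (q : ℕ) G : Set G) := by
      intro p q a ha
      refine mem_centralizer_iff.2 fun b hb => ?_
      haveI := Fact.mk p.2
      haveI := Fact.mk q.2
      by_cases hpq : p = q
      · subst hpq
        by_cases hne : pCore (p : ℕ) G = ⊥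
        · rw [hne, mem_bot] at ha
          rw [ha, mul_one, one_mul]
        exact (hcore p hne).2.1 b hb a ha
      · haveI : (pCore (p : ℕ) G).Normal := inferInstance
        haveI : (pCore (q : ℕ) G).Normal := inferInstance
        exact (Subgroup.commute_of_normal_of_disjoint _ _ inferInstance inferInstance
          (IsPGroup.disjoint_of_ne q p (fun e => hpq (Subtype.ext e.symm)) _ _
            PLocal.Cores.isPGroup_pCore PLocal.Cores.isPGroup_pCore) b a hb ha).eq
    intro a ha b hb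
    rw [Components.Fitting.fitting_eq_coreJoin] at ha hb
    have h1 : Components.Fitting.coreJoin G ≤ centralizer (Components.Fitting.coreJoin G : Set G) := by
      refine iSup_le fun p => le_centralizer_iff.1 (iSup_le fun q => ?_)
      exact key q p
    exact (mem_centralizer_iff.1 (h1 ha) b hb).symm
  have hcop : (Nat.card (fittingSubgroup G)).Coprime (fittingSubgroup G).index := by
    refine Nat.coprime_of_dvd fun p hp h1 h2 => ?_
    haveI := Fact.mk hp
    by_cases hne : pCore p G = ⊥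
    · have h3 := Components.Fitting.coreJoin_le_sup (G := G) p
      rw [hne, bot_sup_eq, ← Components.Fitting.fitting_eq_coreJoin] at h3
      exact PLocal.Cores.not_dvd_card_pPrimeCore hp.ne_one (h1.trans (card_dvd_of_le h3))
    · exact (hcore p hne).1 (h2.trans (index_dvd_of_le (Components.Fitting.pCore_le_fitting p)))
  obtain ⟨K, hK⟩ := exists_right_complement'_of_coprime (N := fittingSubgroup G) hcop
  have hF : Frame G K :=
    { hyp := hG, solv := inferInstance, comm := hcomm, compl := hK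
      cop := hK.symm.index_eq_card ▸ hcop
      sylow := fun p hp hne => by
        haveI := Fact.mk hp
        exact ⟨(hcore p hne).1, (hcore p hne).2.2.1⟩ }
  exact bad_case hF hAB fun p hp hne => by
    haveI := Fact.mk hp
    exact (hcore p hne).2.2.2

end Cfsg.Agent.EqualOrderConj.Abelian
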